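/-
Piece B2 of helper20's farm for S2197: `card_stabilizer_mul` lives in `B1.lean` (by helper67).
-/
import Cfsg.Agent.Lib.Helper20.Tits2T.B1
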